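import Mathlib
import Groth.Prelude.Def_ArtFun4
import Groth.Agent.ArtFunLib.Basic
import Groth.Agent.RegLocal.Completion

/-! The completion of an augmented Noetherian local algebra corepresents its Artinian points. -/

set_option autoImplicit false
universe u

open IsLocalRing

namespace Groth.Agent.RatPtLib

variable {k : Type u} [Field k] {O : Type u} [CommRing O] [IsLocalRing O] [IsNoetherianRing O] [Algebra k O]
  (r : O →ₐ[k] k)

theorem surjective_res : Function.Surjective r := fun c => ⟨algebraMap k O c, r.commutes c⟩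

theorem ker_res : RingHom.ker r = maximalIdeal O :=
  IsLocalRing.eq_maximalIdeal (RingHom.ker_isMaximal_of_surjective r.toRingHom (surjective_res r))

abbrev Compl (O : Type u) [CommRing O] [IsLocalRing O] : Type u := AdicCompletion (maximalIdeal O) O

theorem algebraMap_compl (c : k) : algebraMap k (Compl O) c = algebraMap O (Compl O) (algebraMap k O c) := rfl

/-- A map from `O/m^N` composed with evaluation, as a `k`-algebra map of the completion. -/
noncomputable def liftN {B : Type u} [CommRing B] [Algebra k B] (φ : O →ₐ[k] B) (N : ℕ)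
    (h : maximalIdeal O ^ N ≤ RingHom.ker φ) : Compl O →ₐ[k] B :=
  { (Ideal.Quotient.lift (maximalIdeal O ^ N) φ.toRingHom (fun a ha => RingHom.mem_ker.mp (h ha))).comp
      (AdicCompletion.evalₐ (maximalIdeal O) N).toRingHom with
    commutes' := fun c => by
      simp [algebraMap_compl]
      exact φ.commutes c }

theorem liftN_of {B : Type u} [CommRing B] [Algebra k B] (φ : O →ₐ[k] B) (N : ℕ)
    (h : maximalIdeal O ^ N ≤ RingHom.ker φ) (x : O) : liftN φ N h (algebraMap O (Compl O) x) = φ x := by
  simp [liftN]

/-- The residue map of the completion. -/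
noncomputable def resC : Compl O →ₐ[k] k := liftN r 1 (by rw [pow_one, ker_res])

theorem ext_of_res {A : Type u} [CommRing A] [Algebra k A] (res : A →ₐ[k] k) (N : ℕ)
    (hN : RingHom.ker res ^ N = ⊥) (ψ ψ' : Compl O →ₐ[k] A)
    (h : ∀ x ∈ maximalIdeal O, res (ψ (algebraMap O (Compl O) x)) = 0)
    (he : ∀ x : O, ψ (algebraMap O (Compl O) x) = ψ' (algebraMap O (Compl O) x)) : ψ = ψ' := by
  have hkill : ∀ φ : Compl O →ₐ[k] A, (∀ x ∈ maximalIdeal O, res (φ (algebraMap O (Compl O) x)) = 0) →
      ∀ z ∈ (maximalIdeal O ^ N).map (algebraMap O (Compl O)), φ z = 0 := by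
    intro φ hφ z hz
    have h1 : ((maximalIdeal O).map (algebraMap O (Compl O))).map φ.toRingHom ≤ RingHom.ker res := by
      rw [Ideal.map_map, Ideal.map_le_iff_le_comap]
      intro x hx
      rw [Ideal.mem_comap, RingHom.mem_ker]
      exact hφ x hx
    have h2 := Ideal.mem_map_of_mem φ.toRingHom hz
    rw [Ideal.map_pow, Ideal.map_pow] at h2
    have h3 := Ideal.pow_right_mono h1 N h2
    rw [hN] at h3
    exact h3
  ext x
  obtain ⟨a, ha⟩ := Ideal.Quotient.mk_surjective (AdicCompletion.evalₐ (maximalIdeal O) N x)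
  have hmem : x - algebraMap O (Compl O) a ∈ (maximalIdeal O ^ N).map (algebraMap O (Compl O)) := by
    have hz : AdicCompletion.evalₐ (maximalIdeal O) N (x - algebraMap O (Compl O) a) = 0 := by
      rw [map_sub, AlgHom.commutes, Ideal.Quotient.algebraMap_eq, ha, sub_self]
    have hk : x - algebraMap O (Compl O) a ∈ (AdicCompletion.eval (maximalIdeal O) O N).ker := by
      rw [LinearMap.mem_ker]
      have := AdicCompletion.factor_evalₐ_eq_eval (maximalIdeal O) (x - algebraMap O (Compl O) a)
        (n := N) (by simp)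
      rw [hz, map_zero] at this
      exact this.symm
    rw [← AdicCompletion.pow_smul_top_eq_ker_eval (maximalIdeal O).fg_of_isNoetherianRing,
      Ideal.smul_top_eq_map] at hk
    exact hk
  rw [← sub_add_cancel x (algebraMap O (Compl O) a), map_add, map_add, hkill ψ h _ hmem, hkill ψ' (fun y hy => he y ▸ h y hy) _ hmem, he]

/-- The completion as a coefficient ring. -/
noncomputable def cring : ArtFun.CRing k k :=
  haveI : IsNoetherianRing (Compl O) := RegLocal.isNoetherianRing_completion O (maximalIdeal O)
  { carrier := Compl O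
    res := resC r
    res_surjective := fun c => ⟨algebraMap k (Compl O) c, (resC r).commutes c⟩
    isAdicComplete := inferInstance }

theorem bijective_points (A : ArtFun.Art k k) :
    Function.Bijective (fun ψ : ArtFun.HomSet (cring r).carrier (cring r).res A =>
      (⟨ψ.1.comp (IsScalarTower.toAlgHom k O (Compl O)), by
        rw [← AlgHom.comp_assoc, ψ.2]
        refine AlgHom.ext fun x => ?_
        exact liftN_of r 1 (by rw [pow_one, ker_res]) x⟩ : {φ : O →ₐ[k] A // A.res.comp φ = r})) := by
  obtain ⟨N, hN⟩ := ArtFunLib.exists_pow_eq_bot A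
  have hm : RingHom.ker A.res = maximalIdeal A :=
    IsLocalRing.eq_maximalIdeal (RingHom.ker_isMaximal_of_surjective A.res.toRingHom A.res_surjective)
  constructor
  · intro ψ ψ' h
    refine Subtype.ext (ext_of_res A.res N (by rw [hm]; exact hN) ψ.1 ψ'.1 (fun x hx => ?_)
      fun x => congrArg (fun q : {φ : O →ₐ[k] A // A.res.comp φ = r} => q.1 x) h)
    refine (congrArg (fun g : Compl O →ₐ[k] k => g (algebraMap O (Compl O) x)) ψ.2).trans ?_
    exact (liftN_of r 1 (by rw [pow_one, ker_res]) x).trans (RingHom.mem_ker.mp ((ker_res r).ge hx))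
  · rintro ⟨φ, hφ⟩
    have hle : maximalIdeal O ^ N ≤ RingHom.ker φ := by
      intro x hx
      have h1 : (maximalIdeal O).map φ.toRingHom ≤ maximalIdeal A := by
        rw [Ideal.map_le_iff_le_comap]
        intro y hy
        rw [Ideal.mem_comap, ← hm, RingHom.mem_ker]
        exact (congrArg (fun g : O →ₐ[k] k => g y) hφ).trans (RingHom.mem_ker.mp ((ker_res r).ge hy))
      have h2 := Ideal.mem_map_of_mem φ.toRingHom hx
      rw [Ideal.map_pow] at h2
      have h3 := Ideal.pow_right_mono h1 N h2
      rw [hN] at h3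
      exact h3
    refine ⟨⟨liftN φ N hle, ?_⟩, Subtype.ext (AlgHom.ext fun x => liftN_of φ N hle x)⟩
    have hk0 : RingHom.ker (AlgHom.id k k) ^ 1 = ⊥ := by
      rw [pow_one, ← RingHom.injective_iff_ker_eq_bot]; exact fun _ _ h => h
    refine ext_of_res (AlgHom.id k k) 1 hk0 _ _ (fun x hx => ?_) (fun x => ?_)
    · show A.res (liftN φ N hle (algebraMap O (Compl O) x)) = 0
      rw [liftN_of]
      exact (congrArg (fun g : O →ₐ[k] k => g x) hφ).trans (RingHom.mem_ker.mp ((ker_res r).ge hx))
    · show A.res (liftN φ N hle (algebraMap O (Compl O) x)) = resC r (algebraMap O (Compl O) x)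
      rw [liftN_of, resC, liftN_of]
      exact congrArg (fun g : O →ₐ[k] k => g x) hφ

end Groth.Agent.RatPtLib
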